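import Cfsg.Agent.Lib.Fus.U62Noncentral.Index
import Cfsg.Agent.Lib.Fus.Fi22Out.Main
import Cfsg.Agent.Lib.Spor.Cos.Fi22.IsSimple
import Cfsg.Agent.Lib.Fus.GfitExtra
import Cfsg.Agent.S1713

/-!
The subgroup of index two is `Fi₂₂` and the centraliser modulo the pair its automorphism group.
-/

set_option autoImplicit false
set_option linter.unusedSectionVars false
set_option linter.style.haveILetI false

open Cfsg
open Cfsg.Agent.Fus.LargeFischerPoints
open scoped Pointwise commutatorElement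

namespace Cfsg.Agent.Fus.U62Noncentral

variable {G : Type*} [Group G] [Finite G] {z : G}

namespace Pick

variable {S : Act z} (P : Pick S)

theorem range_le {N : Subgroup P.Bar} (hi : N.index = 2) : P.φ.range ≤ N := by
  haveI : Group.IsPerfect ↥P.CE := (P.tri P.hab P.hac P.hbc).1.1
  rw [MonoidHom.range_eq_map, ← Group.IsPerfect.commutator_eq_top (G := ↥P.CE), commutator_def,
    Subgroup.map_commutator, Subgroup.commutator_le]
  intro x _ y _
  simp only [commutatorElement_def, Subgroup.mul_mem_iff_of_index_two hi, inv_mem_iff]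
  tauto

theorem mem_range_of {N : Subgroup P.Bar} (hi : N.index = 2) (hu : P.u ∉ N) {y : P.Bar} (hy : y ∈ N)
    (hc : Commute y P.d) : y ∈ P.φ.range :=
  (P.cases_d hc).resolve_right fun h => hu (by simpa using mul_mem (P.range_le hi h) (inv_mem hy))

/-- The subgroup of index two is `Fi₂₂`. -/
theorem iso_fi22 {N : Subgroup P.Bar} (hN : N.Normal) (hi : N.index = 2) (hu : P.u ∉ N) :
    Nonempty (↥N ≃* Cfsg.Spor.Fi22) := by
  classical
  obtain ⟨hq, hEn, K, hK1, hK2, hK, ⟨e⟩⟩ := P.tri P.hab P.hac P.hbc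
  have hle := P.range_le hi
  set d₁ : ↥N := ⟨P.d, hle P.d_range⟩ with hd₁
  set C₁ := Subgroup.centralizer ({d₁} : Set ↥N) with hC₁
  let ψ₀ : ↥P.CE →* ↥N := P.φ.codRestrict N fun w => hle ⟨w, rfl⟩
  let ψ : ↥P.CE →* ↥C₁ := ψ₀.codRestrict C₁ fun w =>
    Subgroup.mem_centralizer_singleton_iff.2 (Subtype.ext (P.range_commute ⟨w, rfl⟩).eq)
  have hψ : Function.Surjective ψ := by
    rintro ⟨⟨y, hy⟩, hyc⟩
    obtain ⟨w, hw⟩ := P.mem_range_of hi hu hy
      (congrArg Subtype.val (Subgroup.mem_centralizer_singleton_iff.1 hyc))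
    exact ⟨w, Subtype.ext (Subtype.ext hw)⟩
  have hd : orderOf d₁ = 2 := (Subgroup.orderOf_mk _ _).trans P.d_two
  have hdC : d₁ ∈ C₁ := Subgroup.mem_centralizer_singleton_iff.2 rfl
  haveI : Nontrivial ↥C₁ := ⟨⟨⟨d₁, hdC⟩, 1, fun h => by
    rw [show d₁ = 1 from congrArg Subtype.val h, orderOf_one] at hd
    omega⟩⟩
  have hq₁ : Cfsg.IsQuasisimple ↥C₁ := Grp.IsQuasisimple.of_surjective hq hψ
  haveI hZn : ((Subgroup.zpowers d₁).subgroupOf C₁).Normal := ⟨fun y hy g => by
    have hy' : Commute g y := Subtype.ext (by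
      obtain ⟨i, hi⟩ := hy
      show (g : ↥N) * (y : ↥N) = (y : ↥N) * (g : ↥N)
      rw [show (y : ↥N) = d₁ ^ i from hi.symm]
      exact ((show Commute (g : ↥N) d₁ from Subgroup.mem_centralizer_singleton_iff.1 g.2).zpow_right i).eq)
    rwa [hy'.eq, mul_inv_cancel_right]⟩
  let f := (QuotientGroup.mk' ((Subgroup.zpowers d₁).subgroupOf C₁)).comp ψ
  have hf : Function.Surjective f := (QuotientGroup.mk'_surjective _).comp hψ
  have hker : f.ker = (S.tri P.a P.b P.c).subgroupOf P.CE := by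
    ext w
    have hz : ∀ y : ↥N, y ∈ Subgroup.zpowers d₁ ↔ y = 1 ∨ y = d₁ := fun y => by
      constructor
      · intro hy
        obtain ⟨k, hk, rfl⟩ := (Finset.mem_image.1 (mem_zpowers_iff_mem_range_orderOf.1 hy))
        rw [Finset.mem_range, hd] at hk
        interval_cases k
        exacts [Or.inl (pow_zero _), Or.inr (pow_one _)]
      · rintro (rfl | rfl)
        exacts [one_mem _, Subgroup.mem_zpowers _]
    rw [MonoidHom.mem_ker, Subgroup.mem_subgroupOf, S.mem_tri P.hab P.hac P.hbc]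
    show QuotientGroup.mk' _ (ψ w) = 1 ↔ _
    rw [QuotientGroup.mk'_apply, QuotientGroup.eq_one_iff, Subgroup.mem_subgroupOf, hz, Subtype.ext_iff,
      Subtype.ext_iff]
    show P.proj ⟨w, _⟩ = 1 ∨ P.proj ⟨w, _⟩ = P.d ↔ _
    rw [P.proj_eq_one, d, P.proj_eq]
    show ((w : G) = 1 ∨ (w : G) = P.t) ∨ ((w : G) = _ ∨ (w : G) = S.pv P.a P.c * P.t) ↔ _
    rw [P.ac_t]
    exact ⟨fun h => by rcases h with (h | h) | (h | h) <;> simp [h, t],
      fun h => by rcases h with h | h | h | h <;> simp [h, t]⟩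
  let e₁ : ↥C₁ ⧸ (Subgroup.zpowers d₁).subgroupOf C₁ ≃* Cfsg.PSU 6 K 2 :=
    ((QuotientGroup.quotientKerEquivOfSurjective f hf).symm.trans
      (QuotientGroup.quotientMulEquivOfEq hker)).trans e
  refine Cfsg.Agent.S1713.result d₁ hd hq₁ K hK e₁ ?_
  -- a second conjugate
  obtain ⟨c', hc'⟩ := exists_other [P.a, P.b, P.c] (by simp)
  simp only [List.mem_cons, List.not_mem_nil, or_false, not_or] at hc'
  obtain ⟨ha', hb', hcc⟩ := hc'
  let i : Fin 3 ↪ GolayPt := ⟨![P.a, P.b, P.c], fun i j k => by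
    fin_cases i <;> fin_cases j <;> simp_all [P.hab, P.hac, P.hbc, P.hab.symm, P.hac.symm, P.hbc.symm]⟩
  let j : Fin 3 ↪ GolayPt := ⟨![P.a, P.b, c'], fun i j k => by
    fin_cases i <;> fin_cases j <;> simp_all [P.hab, P.hab.symm, Ne.symm ha', Ne.symm hb']⟩
  obtain ⟨σ, hσ, hmove⟩ := Spor.Golay.Census.exists_move_points (k := 3) (by norm_num) i j
  obtain ⟨n, hn⟩ := S.exists_perm_eq hσ
  have hσa : σ P.a = P.a := hmove 0
  have hσb : σ P.b = P.b := hmove 1
  have hσc : σ P.c = c' := hmove 2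
  have hnC : (n : G) ∈ P.CT := P.mem_CT.2 (S.commute_pv n P.hab (hn ▸ hσa) (hn ▸ hσb))
  have hd' : (n : G) * S.pv P.a P.c * (n : G)⁻¹ = S.pv P.a c' := by rw [S.conj_pv n P.hac, hn, hσa, hσc]
  have hac' : S.pv P.a c' ∈ P.CT := P.A_le (S.pv_mem _ _)
  set d' := P.proj ⟨_, hac'⟩ with hd'def
  have key : ∀ g : ↥N, (g : P.Bar) * P.d * (g : P.Bar)⁻¹ = d' →
      g * d₁ * g⁻¹ ∈ C₁ ∧ g * d₁ * g⁻¹ ≠ d₁ := by
    intro g hg
    refine ⟨Subgroup.mem_centralizer_singleton_iff.2 (Subtype.ext ?_), fun h => ?_⟩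
    · show (g : P.Bar) * P.d * (g : P.Bar)⁻¹ * P.d = P.d * ((g : P.Bar) * P.d * (g : P.Bar)⁻¹)
      rw [hg, hd'def, d]
      exact ((show Commute (⟨_, hac'⟩ : ↥P.CT) ⟨_, P.ac_mem⟩ from Subtype.ext (S.pv_commute _ _ _ _).eq).map P.proj).eq
    · have h' : d' = P.d := hg.symm.trans (congrArg Subtype.val h)
      rcases P.proj_eq.1 h' with h2 | h2
      · exact S.pv_ne (Ne.symm ha') P.hac hcc h2
      · rw [P.ac_t] at h2
        have h3 : P.a ∈ ({P.b, P.c} : Finset GolayPt) := S.pv_inj (Ne.symm ha') P.hbc h2 ▸ by simp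
        simp [P.hab, P.hac] at h3
  by_cases hmem : P.proj ⟨n, hnC⟩ ∈ N
  · refine ⟨⟨_, hmem⟩, key _ ?_⟩
    show P.proj ⟨n, hnC⟩ * P.d * (P.proj ⟨n, hnC⟩)⁻¹ = d'
    rw [d, ← map_inv, ← map_mul, ← map_mul, hd'def]
    exact congrArg P.proj (Subtype.ext hd')
  · have hmem' : P.proj ⟨n, hnC⟩ * P.u ∈ N :=
      (Subgroup.mul_mem_iff_of_index_two hi).2 (iff_of_false hmem hu)
    refine ⟨⟨_, hmem'⟩, key _ ?_⟩
    have h1 : P.u * P.d * P.u⁻¹ = P.d := by
      rw [u, d, ← map_inv, ← map_mul, ← map_mul, P.proj_eq]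
      refine Or.inr ?_
      show P.x * S.pv P.a P.c * S.pv P.a P.c * (P.x * S.pv P.a P.c)⁻¹ = S.pv P.a P.c * P.t
      rw [P.ac_t, ← P.x_ac, mul_inv_rev, S.pv_inv]
      simp [mul_assoc, ← mul_assoc (S.pv P.a P.c) (S.pv P.a P.c), S.pv_sq]
    show P.proj ⟨n, hnC⟩ * P.u * P.d * (P.proj ⟨n, hnC⟩ * P.u)⁻¹ = d'
    rw [show P.proj ⟨n, hnC⟩ * P.u * P.d * (P.proj ⟨n, hnC⟩ * P.u)⁻¹ =
      P.proj ⟨n, hnC⟩ * (P.u * P.d * P.u⁻¹) * (P.proj ⟨n, hnC⟩)⁻¹ by group, h1, d, ← map_inv, ← map_mul, ← map_mul, hd'def]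
    exact congrArg P.proj (Subtype.ext hd')

/-- Nothing centralises the subgroup of index two. -/
theorem centralizer_bot {N : Subgroup P.Bar} (hi : N.index = 2) (f : ↥N ≃* Cfsg.Spor.Fi22) :
    Subgroup.centralizer (N : Set P.Bar) = ⊥ := by
  classical
  rw [Subgroup.eq_bot_iff_forall]
  intro k hk
  have hk' := Subgroup.mem_centralizer_iff.1 hk
  by_cases hkN : k ∈ N
  · have h := Fi22Out.center_trivial (f ⟨k, hkN⟩) fun y => by
      rw [← f.apply_symm_apply y, ← map_mul, ← map_mul]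
      exact congrArg f (Subtype.ext (hk' _ (f.symm y).2).symm)
    rw [← map_one f] at h
    exact congrArg Subtype.val (f.injective h)
  exfalso
  obtain ⟨w, rfl⟩ := P.proj_surjective k
  have hw : ∀ v ∈ S.A, (w : G) * v * (w : G)⁻¹ = v ∨ (w : G) * v * (w : G)⁻¹ = v * P.t := by
    intro v hv
    refine P.proj_eq (w := w * ⟨v, P.A_le hv⟩ * w⁻¹) (v := ⟨v, P.A_le hv⟩) |>.1 ?_
    rw [map_mul, map_mul, map_inv]
    exact mul_inv_eq_iff_eq_mul.2 (hk' _ (P.range_le hi ⟨⟨v, P.A_le_CE hv⟩, rfl⟩)).symm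
  have hwn : (w : G) ∈ Subgroup.normalizer (S.A : Set G) := by
    refine Subgroup.mem_normalizer_iff_map_conj_eq.2 (Subgroup.eq_of_le_of_card_ge ?_ ?_)
    · rintro _ ⟨v, hv, rfl⟩
      rcases hw v hv with h | h
      · exact (show (w : G) * v * (w : G)⁻¹ ∈ S.A from h.symm ▸ hv)
      · exact (show (w : G) * v * (w : G)⁻¹ ∈ S.A from h.symm ▸ mul_mem hv (S.pv_mem _ _))
    · rw [Subgroup.card_map_of_injective (MulAut.conj (w : G)).injective]
  set π := S.perm ⟨w, hwn⟩ with hπ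
  have hpair : ∀ p q, p ≠ P.a → p ≠ P.b → q ≠ P.a → q ≠ P.b → p ≠ q →
      ({π p, π q} : Finset GolayPt) = {p, q} := by
    intro p q hpa hpb hqa hqb hpq
    have hc := S.conj_pv ⟨w, hwn⟩ hpq
    rcases hw _ (S.pv_mem p q) with h | h
    · exact S.pv_inj (π.injective.ne hpq) hpq (hc.symm.trans h)
    · exfalso
      have hin : S.val {p, q} * S.val {P.a, P.b} ∈ pairSet S.val := by
        show S.pv p q * P.t ∈ pairSet S.val
        rw [← h, hc]
        exact S.pv_pair (π.injective.ne hpq)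
      have := (S.pts.val_pair_mem (Finset.card_pair hpq) (Finset.card_pair P.hab)).1 hin
      rw [show ({p, q} : Finset GolayPt) ∩ {P.a, P.b} = ∅ by
        ext x; simp; rintro (rfl | rfl) <;> simp [hpa, hpb, hqa, hqb]] at this
      simp at this
  refine hkN (P.range_le hi ?_)
  have h1 : π = 1 := eq_one_of_fix_off (S.perm_mem _) (a := P.a) (b := P.b) fun p hpa hpb => by
    obtain ⟨q, hq⟩ := exists_other [P.a, P.b, p] (by simp)
    obtain ⟨r, hr⟩ := exists_other [P.a, P.b, p, q] (by simp)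
    simp only [List.mem_cons, List.not_mem_nil, or_false, not_or] at hq hr
    have e1 : π p ∈ ({p, q} : Finset GolayPt) := hpair p q hpa hpb hq.1 hq.2.1 (Ne.symm hq.2.2) ▸ by simp
    have e2 : π p ∈ ({p, r} : Finset GolayPt) := hpair p r hpa hpb hr.1 hr.2.1 (Ne.symm hr.2.2.1) ▸ by simp
    simp only [Finset.mem_insert, Finset.mem_singleton] at e1 e2
    rcases e1 with e1 | e1
    · exact e1
    · rcases e2 with e2 | e2
      · exact e2
      · exact absurd (e1.symm.trans e2) (Ne.symm hr.2.2.2)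
  exact ⟨⟨w, P.A_le_CE (S.perm_eq_one.1 h1)⟩, rfl⟩

/-- The structure of the centraliser. -/
theorem core (K : Subgroup ↥P.CT) (hK : K = Cfsg.generalizedFittingSubgroup ↥P.CT) :
    Cfsg.IsQuasisimple ↥K ∧ K.index = 2 ∧ (⟨P.t, P.t_mem⟩ : ↥P.CT) ∈ K ∧
      Nonempty (P.Bar ≃* MulAut Cfsg.Spor.Fi22) := by
  classical
  obtain ⟨N, hN, hi, hu⟩ := P.exists_normal
  obtain ⟨f⟩ := P.iso_fi22 hN hi hu
  have hbot := P.centralizer_bot hi f
  haveI hsim : IsSimpleGroup Cfsg.Spor.Fi22 := Spor.Cos.Fi22.isSimple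
  haveI : Nontrivial ↥N := f.toEquiv.nontrivial
  haveI hsN : IsSimpleGroup ↥N := IsSimpleGroup.isSimpleGroup_of_surjective f.symm.toMonoidHom f.symm.surjective
  have hNc : Subgroup.center ↥N = ⊥ := by
    rw [Subgroup.eq_bot_iff_forall]
    intro y hy
    refine f.injective ((Fi22Out.center_trivial _ fun v => ?_).trans (map_one f).symm)
    rw [← f.apply_symm_apply v, ← map_mul, ← map_mul, Subgroup.mem_center_iff.1 hy]
  have hNp : ⁅N, N⁆ = N := by
    rw [← Subgroup.isPerfect_iff, Group.isPerfect_def]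
    rcases IsSimpleGroup.eq_bot_or_eq_top_of_normal (commutator ↥N) inferInstance with h | h
    · exfalso
      rw [commutator_def, Subgroup.commutator_eq_bot_iff_le_centralizer] at h
      have hd : (⟨P.d, P.range_le hi P.d_range⟩ : ↥N) ∈ Subgroup.center ↥N :=
        Subgroup.mem_center_iff.2 fun y => Subgroup.mem_centralizer_iff.1 (h (Subgroup.mem_top _)) y (Subgroup.mem_top _)
      rw [hNc, Subgroup.mem_bot] at hd
      have := P.d_two
      rw [show P.d = 1 from congrArg Subtype.val hd, orderOf_one] at this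
      omega
    · exact h
  -- the quasisimple subgroup
  set L := N.comap P.proj with hL
  have hkerL : P.proj.ker ≤ L := Subgroup.ker_le_comap P.proj N
  have hLi : L.index = 2 := by rw [hL, Subgroup.index_comap_of_surjective _ P.proj_surjective, hi]
  haveI hLn : L.Normal := hN.comap P.proj
  have hkerc : ∀ v ∈ P.proj.ker, ∀ w : ↥P.CT, w * v = v * w := fun v hv w => Subtype.ext (by
    rcases P.proj_eq_one.1 (MonoidHom.mem_ker.1 hv) with h | h <;>
      rw [Subgroup.coe_mul, Subgroup.coe_mul, h]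
    · simp
    · exact (P.mem_CT.1 w.2).eq)
  have hE : P.CE.subgroupOf P.CT ≤ L := fun w hw => P.range_le hi ⟨⟨w, hw⟩, rfl⟩
  have hker : P.proj.ker ≤ ⁅L, L⁆ := by
    haveI : Group.IsPerfect ↥(P.CE.subgroupOf P.CT) := by
      haveI : Group.IsPerfect ↥P.CE := (P.tri P.hab P.hac P.hbc).1.1
      exact Group.IsPerfect.ofSurjective (Subgroup.subgroupOfEquivOfLe P.CE_le).symm.surjective
        (f := (Subgroup.subgroupOfEquivOfLe P.CE_le).symm.toMonoidHom)
    refine le_trans (fun w hw => ?_) (Subgroup.commutator_mono hE hE)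
    rw [Subgroup.isPerfect_iff.1 inferInstance]
    rcases P.proj_eq_one.1 (MonoidHom.mem_ker.1 hw) with h | h <;> rw [Subgroup.mem_subgroupOf, h]
    exacts [one_mem _, P.A_le_CE (S.pv_mem _ _)]
  have hLp : ⁅L, L⁆ = L := by
    refine le_antisymm (Subgroup.commutator_le_self L) ?_
    have h1 : L.map P.proj = N := Subgroup.map_comap_eq_self_of_surjective P.proj_surjective N
    have h2 : ⁅L, L⁆.map P.proj = N := by rw [Subgroup.map_commutator, h1, hNp]
    calc L = (⁅L, L⁆.map P.proj).comap P.proj := by rw [h2]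
      _ = ⁅L, L⁆ := Subgroup.comap_map_eq_self hker
      _ ≤ _ := le_rfl
  let g : ↥L →* ↥N := P.proj.subgroupComap N
  have hg : Function.Surjective g := MonoidHom.subgroupComap_surjective_of_surjective P.proj N P.proj_surjective
  have hLz : Subgroup.center ↥L = g.ker := by
    ext y
    constructor
    · intro hy
      have : g y ∈ Subgroup.center ↥N := Subgroup.mem_center_iff.2 fun v => by
        obtain ⟨v, rfl⟩ := hg v
        rw [← map_mul, ← map_mul, Subgroup.mem_center_iff.1 hy]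
      rwa [hNc, Subgroup.mem_bot] at this
    · intro hy
      exact Subgroup.mem_center_iff.2 fun v => Subtype.ext
        (hkerc _ (MonoidHom.mem_ker.2 (congrArg Subtype.val (MonoidHom.mem_ker.1 hy))) v)
  have hLq : Cfsg.IsQuasisimple ↥L := by
    refine ⟨Subgroup.isPerfect_iff.2 hLp, ?_⟩
    let e := (QuotientGroup.quotientMulEquivOfEq hLz).trans (QuotientGroup.quotientKerEquivOfSurjective g hg)
    haveI : Nontrivial (↥L ⧸ Subgroup.center ↥L) := e.toEquiv.nontrivial
    exact IsSimpleGroup.isSimpleGroup_of_surjective e.symm.toMonoidHom e.symm.surjective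
  have hcL : Subgroup.centralizer (L : Set ↥P.CT) ≤ L := by
    intro w hw
    refine hkerL (MonoidHom.mem_ker.2 ?_)
    have : P.proj w ∈ Subgroup.centralizer (N : Set P.Bar) := Subgroup.mem_centralizer_iff.2 fun y hy => by
      obtain ⟨v, rfl⟩ := P.proj_surjective y
      rw [← map_mul, ← map_mul, Subgroup.mem_centralizer_iff.1 hw v hy]
    rwa [hbot, Subgroup.mem_bot] at this
  have hcomp : Cfsg.IsComponent L := ⟨hLn.isSubnormal, hLq⟩
  have hLE : L ≤ Cfsg.layer ↥P.CT := Grp.IsComponent.le_layer hcomp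
  have hKL : K = L := by
    rw [hK, Cfsg.generalizedFittingSubgroup]
    refine le_antisymm (sup_le (sSup_le fun M hM => ?_) ?_) (hLE.trans le_sup_left)
    · exact (Grp.component_le_or_commute hM hcomp.1).elim id fun h =>
        (Subgroup.commutator_eq_bot_iff_le_centralizer.1 h).trans hcL
    · exact ((Subgroup.le_centralizer_iff.1 Grp.layer_le_centralizer_fitting).trans
        (Subgroup.centralizer_le hLE)).trans hcL
  subst hKL
  refine ⟨hLq, hLi, hkerL (MonoidHom.mem_ker.2 (P.proj_eq_one.2 (Or.inr rfl))), ?_⟩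
  -- the automorphism group
  haveI := hN
  let Φ : P.Bar →* MulAut Cfsg.Spor.Fi22 := (MulAut.congr f).toMonoidHom.comp (MulAut.conjNormal (H := N))
  have hΦ : Function.Injective Φ := by
    rw [injective_iff_map_eq_one]
    intro k hk
    have h1 : MulAut.conjNormal (H := N) k = 1 := (MulAut.congr f).injective (hk.trans (map_one _).symm)
    have : k ∈ Subgroup.centralizer (N : Set P.Bar) := Subgroup.mem_centralizer_iff.2 fun y hy => by
      have h2 : k * y * k⁻¹ = y := by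
        rw [← MulAut.conjNormal_apply k ⟨y, hy⟩, h1]; rfl
      exact (mul_inv_eq_iff_eq_mul.1 h2).symm
    rwa [hbot, Subgroup.mem_bot] at this
  haveI : Finite Cfsg.Spor.Fi22 := Finite.of_equiv _ f.toEquiv
  haveI : Finite (MulAut Cfsg.Spor.Fi22) := Finite.of_injective _ DFunLike.coe_injective
  have hcardN : Nat.card ↥N = Nat.card Cfsg.Spor.Fi22 := Nat.card_congr f.toEquiv
  have hInn : Nat.card ↥(Cfsg.Inn Cfsg.Spor.Fi22) = Nat.card Cfsg.Spor.Fi22 := by
    refine (Nat.card_congr (MonoidHom.ofInjective ?_).toEquiv).symm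
    rw [injective_iff_map_eq_one]
    intro y hy
    exact Fi22Out.center_trivial y fun v => mul_inv_eq_iff_eq_mul.1 (MulEquiv.congr_fun hy v)
  have hAut := Subgroup.card_eq_card_quotient_mul_card_subgroup (Cfsg.Inn Cfsg.Spor.Fi22)
  rw [show Nat.card (MulAut Cfsg.Spor.Fi22 ⧸ Cfsg.Inn Cfsg.Spor.Fi22) = 2 from Fi22Out.card_out, hInn] at hAut
  have hBar : Nat.card P.Bar = Nat.card (MulAut Cfsg.Spor.Fi22) := by
    rw [hAut, ← hcardN, ← hi, mul_comm, Subgroup.card_mul_index]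
  exact ⟨MulEquiv.ofBijective Φ ((Nat.bijective_iff_injective_and_card Φ).2 ⟨hΦ, hBar⟩)⟩

end Pick

end Cfsg.Agent.Fus.U62Noncentral
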