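import Cfsg.Agent.Lib.Fus.U62Noncentral.Seed
import Cfsg.Agent.Lib.Fus.U62Noncentral.Fi22
import Cfsg.Agent.Lib.Invol.BTheoremBase

/-!
The centraliser of an involution of the extraspecial group outside the class of the centre.
-/

set_option autoImplicit false
set_option linter.unusedSectionVars false
set_option linter.style.haveILetI false

open Cfsg

namespace Cfsg.Agent.Fus.U62Noncentral

theorem exists_pick {G : Type*} [Group G] [Finite G] {z : G}
    {Q : Subgroup (Subgroup.centralizer ({z} : Set G))} [Q.Normal] (hF : IsOfLargeFischerTypeAt z Q)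
    (htri : HasTriangles z) {t : G}
    (htQ : ∃ htc : t ∈ Subgroup.centralizer ({z} : Set G), (⟨t, htc⟩ : Subgroup.centralizer ({z} : Set G)) ∈ Q)
    (ht2 : orderOf t = 2) (ht : ¬ IsConj z t) :
    ∃ (S : Act z) (P : Pick S) (g : G), g * P.t * g⁻¹ = t := by
  obtain ⟨m⟩ := Spor.LargeFischer.exists_model hF
  obtain ⟨T, hT⟩ := exists_sylow_AK m hF
  obtain ⟨S, hS⟩ := exists_act hF T
  obtain ⟨x, hx, a, b, c, hxx, hab, hac, hbc, ha, hb, hc⟩ := exists_outer m S (hS.trans hT)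
  let P : Pick S :=
    ⟨a, b, c, x, hx, hxx, hab, hac, hbc, ha, hb, hc, fun h1 h2 h3 => isTriCent_tri htri S T hS h1 h2 h3,
      fun R B C hB hB' hC hC' => LargeFischerLocal.big_eq m hF hB hB' hC hC'⟩
  obtain ⟨g, hg⟩ := exists_conj_pair m hF S (hS.trans hT) htQ ht2 ht hab
  exact ⟨S, P, g, hg⟩

/-- The centraliser of such an involution. -/
theorem centralizer_facts {G : Type*} [Group G] [Finite G] {z : G}
    {Q : Subgroup (Subgroup.centralizer ({z} : Set G))} [Q.Normal] (hF : IsOfLargeFischerTypeAt z Q)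
    (htri : HasTriangles z) {t : G}
    (htQ : ∃ htc : t ∈ Subgroup.centralizer ({z} : Set G), (⟨t, htc⟩ : Subgroup.centralizer ({z} : Set G)) ∈ Q)
    (ht2 : orderOf t = 2) (ht : ¬ IsConj z t) (K : Subgroup ↥(Subgroup.centralizer ({t} : Set G)))
    (hK : K = Cfsg.generalizedFittingSubgroup ↥(Subgroup.centralizer ({t} : Set G)))
    [hn : ((Subgroup.zpowers t).subgroupOf (Subgroup.centralizer ({t} : Set G))).Normal] :
    Cfsg.IsQuasisimple ↥K ∧ K.index = 2 ∧
      (∃ htc : t ∈ Subgroup.centralizer ({t} : Set G),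
        (⟨t, htc⟩ : ↥(Subgroup.centralizer ({t} : Set G))) ∈ K) ∧
      Nonempty (↥(Subgroup.centralizer ({t} : Set G)) ⧸
        (Subgroup.zpowers t).subgroupOf (Subgroup.centralizer ({t} : Set G)) ≃* MulAut Cfsg.Spor.Fi22) := by
  obtain ⟨S, P, g, rfl⟩ := exists_pick hF htri htQ ht2 ht
  obtain ⟨h1, h2, h3, ⟨h4⟩⟩ := P.core _ rfl
  set φ := MulAut.conj g with hφ
  have hC : (Subgroup.centralizer ({P.t} : Set G)).map φ.toMonoidHom =
      Subgroup.centralizer ({g * P.t * g⁻¹} : Set G) := by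
    ext x
    rw [Subgroup.mem_map_equiv, Subgroup.mem_centralizer_singleton_iff, Subgroup.mem_centralizer_singleton_iff]
    rw [← φ.injective.eq_iff, map_mul, map_mul, φ.apply_symm_apply]
    rfl
  let e := (φ.subgroupMap (Subgroup.centralizer ({P.t} : Set G))).trans (MulEquiv.subgroupCongr hC)
  have hKe : K = (Cfsg.generalizedFittingSubgroup ↥P.CT).map e.toMonoidHom :=
    hK.trans (Invol.gfitting_map_eq e).symm
  subst hKe
  have htC : g * P.t * g⁻¹ ∈ Subgroup.centralizer ({g * P.t * g⁻¹} : Set G) :=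
    Subgroup.mem_centralizer_singleton_iff.2 rfl
  refine ⟨(Grp.isQuasisimple_congr ((Cfsg.generalizedFittingSubgroup ↥P.CT).equivMapOfInjective _ e.injective)).1 h1,
    ?_, ⟨htC, _, h3, Subtype.ext rfl⟩, ⟨?_⟩⟩
  · rw [← h2]
    exact Subgroup.index_map_equiv _ e
  refine ((QuotientGroup.congr ((Subgroup.zpowers P.t).subgroupOf P.CT) _ e ?_).symm).trans h4
  ext x
  have hz : Subgroup.zpowers (g * P.t * g⁻¹) = (Subgroup.zpowers P.t).map φ.toMonoidHom :=
    (MonoidHom.map_zpowers φ.toMonoidHom P.t).symm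
  rw [Subgroup.mem_subgroupOf, hz]
  constructor
  · rintro ⟨y, hy, rfl⟩
    exact ⟨(y : G), hy, rfl⟩
  · rintro ⟨v, hv, hvx⟩
    refine ⟨⟨v, Subgroup.zpowers_le.2 P.t_mem hv⟩, hv, Subtype.ext hvx⟩

end Cfsg.Agent.Fus.U62Noncentral
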