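import Cfsg.Agent.Lib.Fus.U62Noncentral.Triangle
import Cfsg.Agent.Lib.Perm.TwoStab.TransferTwo

/-!
Modulo the pair its centraliser has a subgroup of index two, meeting the centraliser of the image of a
second pair in the perfect part.
-/

set_option autoImplicit false
set_option linter.unusedSectionVars false
set_option linter.style.haveILetI false

open Cfsg
open Cfsg.Agent.Fus.LargeFischerPoints
open scoped Pointwise commutatorElement

namespace Cfsg.Agent.Fus.U62Noncentral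

variable {G : Type*} [Group G] [Finite G] {z : G}

/-- A pair with an involution interchanging its points and fixing a third point. -/
structure Pick (S : Act z) where
  /-- a point -/
  a : GolayPt
  /-- its partner -/
  b : GolayPt
  /-- a fixed point -/
  c : GolayPt
  /-- the involution -/
  x : G
  hx : x ∈ Subgroup.normalizer (S.A : Set G)
  sq : x * x = 1
  hab : a ≠ b
  hac : a ≠ c
  hbc : b ≠ c
  xa : S.perm ⟨x, hx⟩ a = b
  xb : S.perm ⟨x, hx⟩ b = a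
  xc : S.perm ⟨x, hx⟩ c = c
  tri : ∀ {p q r : GolayPt}, p ≠ q → p ≠ r → q ≠ r → IsTriCent (S.tri p q r)
  uniq : ∀ (P : Sylow 2 G) (B C : Subgroup G), B ≤ (P : Subgroup G) → LargeFischerLocal.Big B →
    C ≤ (P : Subgroup G) → LargeFischerLocal.Big C → B = C

namespace Pick

variable {S : Act z} (P : Pick S)

/-- The involution of the pair. -/
def t : G := S.pv P.a P.b

/-- Its centraliser. -/
abbrev CT : Subgroup G := Subgroup.centralizer ({P.t} : Set G)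

theorem mem_CT {w : G} : w ∈ P.CT ↔ Commute w P.t := Subgroup.mem_centralizer_singleton_iff

theorem A_le : S.A ≤ P.CT := fun _ h => P.mem_CT.2 (S.big.1 _ h _ (S.pv_mem _ _))

theorem t_mem : P.t ∈ P.CT := P.mem_CT.2 (Commute.refl _)

instance zpowers_normal : ((Subgroup.zpowers P.t).subgroupOf P.CT).Normal := ⟨fun y hy g => by
  have hy' : Commute g y := Subtype.ext (by
    obtain ⟨i, hi⟩ := hy
    show (g : G) * (y : G) = (y : G) * (g : G)
    rw [show (y : G) = P.t ^ i from hi.symm]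
    exact ((P.mem_CT.1 g.2).zpow_right i).eq)
  rwa [hy'.eq, mul_inv_cancel_right]⟩

/-- The centraliser modulo the pair. -/
abbrev Bar : Type _ := ↥P.CT ⧸ (Subgroup.zpowers P.t).subgroupOf P.CT

/-- The projection. -/
def proj : ↥P.CT →* P.Bar := QuotientGroup.mk' _

theorem proj_surjective : Function.Surjective P.proj := QuotientGroup.mk'_surjective _

theorem t_sq : P.t * P.t = 1 := S.pv_sq _ _

theorem proj_eq_one {w : ↥P.CT} : P.proj w = 1 ↔ (w : G) = 1 ∨ (w : G) = P.t := by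
  rw [proj, QuotientGroup.mk'_apply, QuotientGroup.eq_one_iff, Subgroup.mem_subgroupOf]
  have hsq : P.t ^ 2 = 1 := by rw [pow_two]; exact P.t_sq
  constructor
  · rintro ⟨i, hi⟩
    rw [← hi]
    rcases Int.even_or_odd i with ⟨j, rfl⟩ | ⟨j, rfl⟩
    · left
      show P.t ^ (j + j) = 1
      rw [show j + j = (2 : ℕ) * j by omega, zpow_mul, zpow_natCast, hsq, one_zpow]
    · right
      show P.t ^ (2 * j + 1) = _
      rw [zpow_add, zpow_one, show 2 * j = (2 : ℕ) * j by omega, zpow_mul, zpow_natCast, hsq, one_zpow, one_mul]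
  · rintro (h | h) <;> rw [h]
    exacts [one_mem _, Subgroup.mem_zpowers _]

theorem proj_eq {w v : ↥P.CT} : P.proj w = P.proj v ↔ (w : G) = v ∨ (w : G) = v * P.t := by
  rw [← inv_mul_eq_one, ← map_inv, ← map_mul, P.proj_eq_one]
  show (w : G)⁻¹ * v = 1 ∨ (w : G)⁻¹ * v = P.t ↔ _
  have ht : P.t⁻¹ = P.t := inv_eq_of_mul_eq_one_right P.t_sq
  constructor
  · rintro (h | h)
    · exact Or.inl (inv_mul_eq_one.1 h)
    · exact Or.inr (by rw [← ht, ← h]; group)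
  · rintro (h | h)
    · exact Or.inl (inv_mul_eq_one.2 h)
    · refine Or.inr ?_
      rw [h, mul_inv_rev, mul_assoc, inv_mul_cancel, mul_one, ht]

theorem x_pv {p q : GolayPt} (h : p ≠ q) :
    P.x * S.pv p q * P.x⁻¹ = S.pv (S.perm ⟨P.x, P.hx⟩ p) (S.perm ⟨P.x, P.hx⟩ q) :=
  S.conj_pv ⟨P.x, P.hx⟩ h

theorem x_inv : P.x⁻¹ = P.x := inv_eq_of_mul_eq_one_right P.sq

theorem x_mem : P.x ∈ P.CT := P.mem_CT.2 (mul_inv_eq_iff_eq_mul.1 (by
  rw [t, P.x_pv P.hab, P.xa, P.xb, S.pv_swap]))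

theorem ac_mem : S.pv P.a P.c ∈ P.CT := P.A_le (S.pv_mem _ _)

/-- The image of the second pair. -/
def d : P.Bar := P.proj ⟨S.pv P.a P.c, P.ac_mem⟩

/-- The element squaring to the pair. -/
def ut : ↥P.CT := ⟨P.x * S.pv P.a P.c, mul_mem P.x_mem P.ac_mem⟩

/-- Its image. -/
def u : P.Bar := P.proj P.ut

theorem x_ac : P.x * S.pv P.a P.c * P.x⁻¹ = S.pv P.b P.c := by rw [P.x_pv P.hac, P.xa, P.xc]

theorem x_bc : P.x * S.pv P.b P.c * P.x⁻¹ = S.pv P.a P.c := by rw [P.x_pv P.hbc, P.xb, P.xc]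

theorem ac_t : S.pv P.a P.c * P.t = S.pv P.b P.c := by
  rw [t, (S.pv_commute P.a P.c P.a P.b).eq, S.pv_mul P.hab P.hac P.hbc]

theorem ut_sq : (P.ut : G) * (P.ut : G) = P.t := by
  show P.x * S.pv P.a P.c * (P.x * S.pv P.a P.c) = P.t
  rw [← P.x_inv, ← mul_assoc]
  have := P.x_ac
  rw [P.x_inv] at this ⊢
  rw [this, ← P.ac_t, (show Commute (S.pv P.a P.c) P.t from S.pv_commute _ _ _ _).eq, mul_assoc, S.pv_sq, mul_one]

theorem u_sq : P.u * P.u = 1 := by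
  rw [u, ← map_mul, P.proj_eq_one]
  exact Or.inr P.ut_sq

theorem ut_conj_bc : (P.ut : G) * S.pv P.b P.c * (P.ut : G)⁻¹ = S.pv P.a P.c := by
  show P.x * S.pv P.a P.c * S.pv P.b P.c * (P.x * S.pv P.a P.c)⁻¹ = _
  rw [mul_inv_rev, S.pv_inv, mul_assoc P.x, (S.pv_commute P.a P.c P.b P.c).eq]
  calc P.x * (S.pv P.b P.c * S.pv P.a P.c) * (S.pv P.a P.c * P.x⁻¹)
      = P.x * (S.pv P.b P.c * (S.pv P.a P.c * S.pv P.a P.c)) * P.x⁻¹ := by group
    _ = S.pv P.a P.c := by rw [S.pv_sq, mul_one, P.x_bc]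

theorem d_two : orderOf P.d = 2 := by
  refine orderOf_eq_prime ?_ ?_
  · rw [pow_two, d, ← map_mul, P.proj_eq_one]
    exact Or.inl (S.pv_sq _ _)
  · rw [d, Ne, P.proj_eq_one]
    rintro (h | h)
    · exact S.pv_ne_one P.hac h
    · exact S.pv_ne P.hac P.hab P.hbc.symm h

/-- The centraliser of the triangle. -/
abbrev CE : Subgroup G := Subgroup.centralizer (S.tri P.a P.b P.c : Set G)

theorem CE_le : P.CE ≤ P.CT := fun _ h => P.mem_CT.2 (S.mem_cent_tri.1 h).1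

theorem A_le_CE : S.A ≤ P.CE := fun _ h =>
  S.mem_cent_tri.2 ⟨S.big.1 _ h _ (S.pv_mem _ _), S.big.1 _ h _ (S.pv_mem _ _)⟩

/-- The map of the centraliser of the triangle. -/
def φ : ↥P.CE →* P.Bar := P.proj.comp (Subgroup.inclusion P.CE_le)

theorem ac_CE : S.pv P.a P.c ∈ P.CE := P.A_le_CE (S.pv_mem _ _)

theorem d_range : P.d ∈ P.φ.range := ⟨⟨_, P.ac_CE⟩, rfl⟩

theorem range_commute {y : P.Bar} (hy : y ∈ P.φ.range) : Commute y P.d := by
  obtain ⟨w, rfl⟩ := hy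
  exact (show Commute (⟨w, P.CE_le w.2⟩ : ↥P.CT) ⟨S.pv P.a P.c, P.ac_mem⟩ from
    Subtype.ext (S.mem_cent_tri.1 w.2).2.eq).map P.proj

theorem cases_d {y : P.Bar} (hy : Commute y P.d) : y ∈ P.φ.range ∨ P.u * y ∈ P.φ.range := by
  obtain ⟨w, rfl⟩ := P.proj_surjective y
  have h : P.proj (w * ⟨_, P.ac_mem⟩ * w⁻¹) = P.d := by rw [map_mul, map_mul, map_inv, ← d, hy.eq, mul_inv_cancel_right]
  rcases P.proj_eq.1 h with h | h
  · refine Or.inl ⟨⟨w, S.mem_cent_tri.2 ⟨P.mem_CT.1 w.2, mul_inv_eq_iff_eq_mul.1 h⟩⟩, rfl⟩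
  · refine Or.inr ⟨⟨(P.ut : G) * w, S.mem_cent_tri.2 ⟨P.mem_CT.1 (mul_mem P.ut.2 w.2), ?_⟩⟩, map_mul P.proj P.ut w⟩
    refine mul_inv_eq_iff_eq_mul.1 ?_
    have h' : (w : G) * S.pv P.a P.c * (w : G)⁻¹ = S.pv P.b P.c := h.trans P.ac_t
    calc (P.ut : G) * w * S.pv P.a P.c * ((P.ut : G) * w)⁻¹
        = (P.ut : G) * ((w : G) * S.pv P.a P.c * (w : G)⁻¹) * (P.ut : G)⁻¹ := by group
      _ = S.pv P.a P.c := by rw [h', P.ut_conj_bc]

/-- The part fixing the first point. -/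
def Fab : Subgroup ↥P.CT where
  carrier := {w | ∃ h : (w : G) ∈ Subgroup.normalizer (S.A : Set G), S.perm ⟨w, h⟩ P.a = P.a}
  one_mem' := ⟨one_mem _, by
    rw [show (⟨((1 : ↥P.CT) : G), _⟩ : ↥(Subgroup.normalizer (S.A : Set G))) = 1 from rfl]
    simp [Act.perm]⟩
  mul_mem' := by
    rintro w v ⟨h1, e1⟩ ⟨h2, e2⟩
    refine ⟨mul_mem h1 h2, ?_⟩
    rw [show (⟨((w * v : ↥P.CT) : G), _⟩ : ↥(Subgroup.normalizer (S.A : Set G))) = ⟨w, h1⟩ * ⟨v, h2⟩ from rfl,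
      S.perm_mul, Equiv.Perm.mul_apply, e2, e1]
  inv_mem' := by
    rintro w ⟨h1, e1⟩
    refine ⟨inv_mem h1, ?_⟩
    rw [show (⟨((w⁻¹ : ↥P.CT) : G), inv_mem h1⟩ : ↥(Subgroup.normalizer (S.A : Set G))) =
      (⟨w, h1⟩ : ↥(Subgroup.normalizer (S.A : Set G)))⁻¹ from rfl]
    simp only [Act.perm, map_inv, InvMemClass.coe_inv, Equiv.Perm.inv_eq_iff_eq]
    exact e1.symm

theorem ker_le_Fab : P.proj.ker ≤ P.Fab := by
  intro w hw
  have hA : (w : G) ∈ S.A := by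
    rcases P.proj_eq_one.1 (MonoidHom.mem_ker.1 hw) with h | h <;> rw [h]
    exacts [one_mem _, S.pv_mem _ _]
  exact ⟨Subgroup.le_normalizer hA, by rw [S.perm_eq_one.2 hA, Equiv.Perm.one_apply]⟩

theorem perm_fix_b {w : ↥P.CT} (h : (w : G) ∈ Subgroup.normalizer (S.A : Set G))
    (ha : S.perm ⟨w, h⟩ P.a = P.a) : S.perm ⟨w, h⟩ P.b = P.b := by
  have hp := S.perm_pair ⟨w, h⟩ P.hab (P.mem_CT.1 w.2)
  have : S.perm ⟨w, h⟩ P.b ∈ ({P.a, P.b} : Finset GolayPt) := hp ▸ by simp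
  simp only [Finset.mem_insert, Finset.mem_singleton] at this
  exact this.resolve_left fun e => P.hab ((S.perm ⟨w, h⟩).injective (ha.trans e.symm))

/-- A subgroup of index two avoiding the element. -/
theorem exists_normal : ∃ N : Subgroup P.Bar, N.Normal ∧ N.index = 2 ∧ P.u ∉ N := by
  classical
  haveI : Fact (Nat.Prime 2) := ⟨Nat.prime_two⟩
  have hA : IsPGroup 2 S.A := IsPGroup.of_card S.card
  have hZ : IsPGroup 2 (Subgroup.zpowers P.x) := by
    obtain ⟨i, -, hi⟩ := (Nat.dvd_prime_pow Nat.prime_two).1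
      (orderOf_dvd_of_pow_eq_one (show P.x ^ 2 ^ 1 = 1 by rw [pow_one, pow_two, P.sq]))
    exact IsPGroup.of_card (n := i) (by rw [Nat.card_zpowers, hi])
  have hW := IsPGroup.to_sup_of_normal_right' hZ hA (Subgroup.zpowers_le.2 P.hx)
  have hWle : Subgroup.zpowers P.x ⊔ S.A ≤ P.CT := sup_le (Subgroup.zpowers_le.2 P.x_mem) P.A_le
  obtain ⟨T, hT⟩ := (hW.of_equiv (Subgroup.subgroupOfEquivOfLe hWle).symm).exists_le_sylow
  have hAT : ∀ v : ↥P.CT, (v : G) ∈ S.A → v ∈ (T : Subgroup ↥P.CT) := fun v hv =>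
    hT (show (v : G) ∈ Subgroup.zpowers P.x ⊔ S.A from Subgroup.mem_sup_right hv)
  have hutT : P.ut ∈ (T : Subgroup ↥P.CT) := hT (mul_mem (Subgroup.mem_sup_left (Subgroup.mem_zpowers _))
    (Subgroup.mem_sup_right (S.pv_mem _ _)))
  have hnorm : ∀ w ∈ (T : Subgroup ↥P.CT), (w : G) ∈ Subgroup.normalizer (S.A : Set G) := by
    intro w hw
    obtain ⟨P', hP'⟩ := (T.isPGroup'.map P.CT.subtype).exists_le_sylow
    refine Subgroup.mem_normalizer_iff_map_conj_eq.2 (P.uniq P' _ _ ?_ (S.big.map (MulAut.conj (w : G)).injective)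
      (fun v hv => hP' ⟨⟨v, P.A_le hv⟩, hAT _ hv, rfl⟩) S.big)
    rintro _ ⟨v, hv, rfl⟩
    exact hP' ⟨w * ⟨v, P.A_le hv⟩ * w⁻¹, mul_mem (mul_mem hw (hAT _ hv)) (inv_mem hw), rfl⟩
  have hkerT : P.proj.ker ≤ (T : Subgroup ↥P.CT) := fun w hw => hAT w (by
    rcases P.proj_eq_one.1 (MonoidHom.mem_ker.1 hw) with h | h <;> rw [h]
    exacts [one_mem _, S.pv_mem _ _])
  have hpre : ∀ w, P.proj w ∈ (T : Subgroup ↥P.CT).map P.proj → w ∈ (T : Subgroup ↥P.CT) := fun w hw => by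
    rw [← Subgroup.comap_map_eq_self hkerT]
    exact hw
  have hD : ∀ w, P.proj w ∈ P.Fab.map P.proj ↔ w ∈ P.Fab := fun w => by
    conv_rhs => rw [← Subgroup.comap_map_eq_self P.ker_le_Fab]
    rfl
  let U : Sylow 2 P.Bar := T.mapSurjective P.proj_surjective
  have hU : (U : Subgroup P.Bar) = (T : Subgroup ↥P.CT).map P.proj := Sylow.coe_mapSurjective _ _
  have hrel : (P.Fab.map P.proj).relIndex (U : Subgroup P.Bar) = 2 := by
    rw [Subgroup.relIndex, Subgroup.index_eq_two_iff]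
    refine ⟨⟨P.u, hU ▸ ⟨_, hutT, rfl⟩⟩, fun y => ?_⟩
    obtain ⟨y, hy⟩ := y
    rw [hU] at hy
    obtain ⟨w, hw, rfl⟩ := hy
    rw [Subgroup.mem_subgroupOf, Subgroup.mem_subgroupOf]
    show Xor' (P.proj w * P.proj P.ut ∈ _) (P.proj w ∈ _)
    rw [← map_mul, hD, hD]
    have hwn := hnorm w hw
    have hun : (P.ut : G) ∈ Subgroup.normalizer (S.A : Set G) := hnorm _ hutT
    set π := S.perm ⟨w, hwn⟩ with hπ
    have hu : S.perm ⟨P.ut, hun⟩ P.a = P.b := by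
      rw [show (⟨(P.ut : G), hun⟩ : ↥(Subgroup.normalizer (S.A : Set G))) =
          ⟨P.x, P.hx⟩ * ⟨S.pv P.a P.c, Subgroup.le_normalizer (S.pv_mem _ _)⟩ from Subtype.ext rfl,
        S.perm_mul, (S.perm_eq_one (n := ⟨S.pv P.a P.c, Subgroup.le_normalizer (S.pv_mem _ _)⟩)).2 (S.pv_mem _ _),
        mul_one, P.xa]
    have h1 : w ∈ P.Fab ↔ π P.a = P.a := ⟨fun ⟨_, e⟩ => e, fun e => ⟨hwn, e⟩⟩
    have h2 : w * P.ut ∈ P.Fab ↔ π P.b = P.a := by
      have e : S.perm ⟨((w * P.ut : ↥P.CT) : G), mul_mem hwn hun⟩ P.a = π P.b := by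
        rw [show (⟨((w * P.ut : ↥P.CT) : G), mul_mem hwn hun⟩ : ↥(Subgroup.normalizer (S.A : Set G))) =
          ⟨w, hwn⟩ * ⟨P.ut, hun⟩ from rfl, S.perm_mul, Equiv.Perm.mul_apply, hu]
      exact ⟨fun ⟨_, h⟩ => e ▸ h, fun h => ⟨mul_mem hwn hun, e.trans h⟩⟩
    rw [h1, h2]
    have hp := S.perm_pair ⟨w, hwn⟩ P.hab (P.mem_CT.1 w.2)
    rw [← hπ] at hp
    have ha : P.a ∈ ({π P.a, π P.b} : Finset GolayPt) := hp ▸ by simp
    simp only [Finset.mem_insert, Finset.mem_singleton] at ha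
    rcases ha with e | e
    · exact Or.inr ⟨e.symm, fun e' => P.hab (π.injective (e.symm.trans e'.symm))⟩
    · exact Or.inl ⟨e.symm, fun e' => P.hab (π.injective (e'.trans e))⟩
  refine Perm.TwoStab.exists_index_two_notMem U _ hrel P.u (hU ▸ ⟨_, hutT, rfl⟩) ?_ ?_
  · intro g hg hgD
    obtain ⟨f, rfl⟩ := P.proj_surjective g
    rw [show (P.proj f)⁻¹ * P.u * P.proj f = P.proj (f⁻¹ * P.ut * f) by rw [u]; simp] at hg hgD
    set w := f⁻¹ * P.ut * f with hw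
    obtain ⟨hwn, ha⟩ := (hD w).1 hgD
    have hww : (w : G) * w = P.t := by
      show ((f : G)⁻¹ * (P.ut : G) * f) * ((f : G)⁻¹ * (P.ut : G) * f) = P.t
      calc _ = (f : G)⁻¹ * ((P.ut : G) * (P.ut : G)) * f := by group
        _ = _ := by rw [P.ut_sq, mul_assoc, ← (P.mem_CT.1 f.2).eq, inv_mul_cancel_left]
    set π := S.perm ⟨w, hwn⟩ with hπ
    have hb : π P.b = P.b := P.perm_fix_b hwn ha
    have hππ : π * π = 1 := by
      rw [hπ, ← S.perm_mul, S.perm_eq_one]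
      show (w : G) * (w : G) ∈ S.A
      rw [hww]
      exact S.pv_mem _ _
    obtain ⟨c', hca, hcb, hc⟩ := exists_third_fixed (S.perm_mem _) hππ P.hab ha hb
    exact sq_ne_pair S P.hab hca.symm hcb.symm (P.tri P.hab hca.symm hcb.symm)
      ⟨P.mem_CT.1 w.2, S.commute_pv ⟨w, hwn⟩ hca.symm ha hc⟩ hww
  · intro g i hi _
    obtain ⟨j, rfl⟩ := Nat.exists_eq_add_of_le hi
    rw [pow_add, pow_one, pow_mul, pow_two, P.u_sq, one_pow, mul_one, inv_mul_cancel]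
    exact one_mem _

end Pick

end Cfsg.Agent.Fus.U62Noncentral
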