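import Cfsg.Agent.Lib.Fus.LargeFischerNorm
import Cfsg.Agent.Lib.Spor.Golay.CensusSimple
import Cfsg.Agent.Lib.Spor.Golay.CensusModules

/-!
The group of order `2^11` of a group of large Fischer type with its twenty-four points: pairs, triangles
and the permutations of `M₂₄` with two fixed points.
-/

set_option autoImplicit false
set_option linter.unusedSectionVars false
set_option linter.style.haveILetI false

open Cfsg
open Cfsg.Agent.Fus.LargeFischerPoints
open scoped Pointwise symmDiff

namespace Cfsg.Agent.Fus.U62Noncentral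

theorem card_pts : Fintype.card GolayPt = 24 := by simp [GolayPt]

theorem sign_M24 {π : Equiv.Perm GolayPt} (h : π ∈ M24) : Equiv.Perm.sign π = 1 := by
  have h0 : Spor.Golay.Census.Fx [] = M24 := by ext g; exact Spor.Golay.Census.mem_Fx_nil
  haveI : IsSimpleGroup ↥M24 := by rw [← h0]; exact Spor.Golay.Census.simple_M24
  set f : ↥M24 →* ℤˣ := Equiv.Perm.sign.comp M24.subtype
  rcases IsSimpleGroup.eq_bot_or_eq_top_of_normal f.ker inferInstance with e | e
  · exfalso
    have := Nat.card_le_card_of_injective f ((MonoidHom.ker_eq_bot_iff f).1 e)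
    rw [Spor.Golay.card_M24, Nat.card_eq_fintype_card, Fintype.card_units_int] at this
    norm_num at this
  · have : (⟨π, h⟩ : ↥M24) ∈ f.ker := e ▸ Subgroup.mem_top _
    exact MonoidHom.mem_ker.1 this

/-- An involution of `M₂₄` with two fixed points has a third. -/
theorem exists_third_fixed {π : Equiv.Perm GolayPt} (h : π ∈ M24) (h2 : π * π = 1) {a b : GolayPt}
    (hab : a ≠ b) (ha : π a = a) (hb : π b = b) : ∃ c, c ≠ a ∧ c ≠ b ∧ π c = c := by
  by_contra hno
  push Not at hno
  have hsupp : π.support = Finset.univ \ {a, b} := by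
    ext x
    simp only [Equiv.Perm.mem_support, Finset.mem_sdiff, Finset.mem_univ, true_and, Finset.mem_insert,
      Finset.mem_singleton, not_or]
    exact ⟨fun hx => ⟨fun e => hx (e ▸ ha), fun e => hx (e ▸ hb)⟩, fun hx => hno x hx.1 hx.2⟩
  have hcard : π.support.card = 22 := by
    rw [hsupp, Finset.card_sdiff_of_subset (Finset.subset_univ _), Finset.card_univ, card_pts,
      Finset.card_pair hab]
  have hall : ∀ n ∈ π.cycleType, n = 2 := fun n hn => by
    have h1 := Equiv.Perm.two_le_of_mem_cycleType hn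
    have h3 : n ∣ 2 :=
      (Equiv.Perm.dvd_of_mem_cycleType hn).trans (orderOf_dvd_of_pow_eq_one (by rw [pow_two, h2]))
    have := Nat.le_of_dvd two_pos h3
    omega
  have hsum := π.sum_cycleType
  rw [Multiset.eq_replicate_card.2 hall, Multiset.sum_replicate, smul_eq_mul, hcard] at hsum
  have hs := π.sign_of_cycleType
  rw [sign_M24 h, π.sum_cycleType, hcard, show Multiset.card π.cycleType = 11 by omega] at hs
  exact absurd hs (by decide)

/-- An element of `M₂₄` fixing all but two points fixes all. -/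
theorem eq_one_of_fix_off {π : Equiv.Perm GolayPt} (h : π ∈ M24) {a b : GolayPt}
    (hfix : ∀ x, x ≠ a → x ≠ b → π x = x) : π = 1 := by
  by_contra hne
  have hsub : π.support ⊆ {a, b} := fun x hx => by
    by_contra hx'
    simp only [Finset.mem_insert, Finset.mem_singleton, not_or] at hx'
    exact Equiv.Perm.mem_support.1 hx (hfix x hx'.1 hx'.2)
  have h1 := Equiv.Perm.one_lt_card_support_of_ne_one hne
  have h2 : π.support.card = 2 :=
    le_antisymm ((Finset.card_le_card hsub).trans Finset.card_le_two) h1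
  have := (Equiv.Perm.card_support_eq_two.1 h2).sign_eq
  rw [sign_M24 h] at this
  exact absurd this (by decide)

/-- The group of order `2^11` and its points. -/
structure Act {G : Type*} [Group G] [Finite G] (z : G) where
  /-- the group -/
  A : Subgroup G
  /-- the elements of the sets of points -/
  val : Finset GolayPt → G
  /-- the action -/
  χ : ↥(Subgroup.normalizer (A : Set G)) →* ↥M24
  big : LargeFischerLocal.Big A
  card : Nat.card A = 2 ^ 11
  pts : Pts A val
  pairs : ∀ a, a ∈ pairSet val ↔ a ∈ A ∧ a ≠ 1 ∧ ¬ IsConj z a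
  surj : Function.Surjective χ
  ker : ∀ n : ↥(Subgroup.normalizer (A : Set G)), χ n = 1 ↔ (n : G) ∈ A
  act : ∀ (n : ↥(Subgroup.normalizer (A : Set G))) (s : Finset GolayPt), Even s.card →
    (n : G) * val s * (n : G)⁻¹ = val ((χ n : Equiv.Perm GolayPt) • s)

theorem exists_act {G : Type*} [Group G] [Finite G] {z : G}
    {Q : Subgroup (Subgroup.centralizer ({z} : Set G))} [Q.Normal] (hF : IsOfLargeFischerTypeAt z Q)
    (T : Sylow 2 G) : ∃ S : Act z, S.A = thompsonSubgroupOf 2 (T : Subgroup G) := by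
  obtain ⟨h1, h2, -, -, val, χ, h3, h4, h5, h6, h7⟩ := LargeFischerNorm.exists_action z Q hF T _ rfl
  exact ⟨⟨_, val, χ, h1, h2, h3, h4, h5, h6, h7⟩, rfl⟩

namespace Act

variable {G : Type*} [Group G] [Finite G] {z : G} (S : Act z)

/-- The element of a pair of points. -/
def pv (a b : GolayPt) : G := S.val {a, b}

/-- The four-group of three points. -/
def tri (a b c : GolayPt) : Subgroup G := Subgroup.closure {S.pv a b, S.pv a c}

/-- The permutation of an element of the normaliser. -/
def perm (n : ↥(Subgroup.normalizer (S.A : Set G))) : Equiv.Perm GolayPt := (S.χ n : Equiv.Perm GolayPt)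

theorem perm_mem (n : ↥(Subgroup.normalizer (S.A : Set G))) : S.perm n ∈ M24 := (S.χ n).2

theorem perm_mul (n k : ↥(Subgroup.normalizer (S.A : Set G))) : S.perm (n * k) = S.perm n * S.perm k := by
  simp [perm]

theorem perm_eq_one {n : ↥(Subgroup.normalizer (S.A : Set G))} : S.perm n = 1 ↔ (n : G) ∈ S.A := by
  rw [← S.ker, perm, OneMemClass.coe_eq_one]

theorem exists_perm_eq {σ : Equiv.Perm GolayPt} (h : σ ∈ M24) : ∃ n, S.perm n = σ := by
  obtain ⟨n, hn⟩ := S.surj ⟨σ, h⟩
  exact ⟨n, congrArg Subtype.val hn⟩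

theorem pv_mem (a b : GolayPt) : S.pv a b ∈ S.A := S.pts.mem _

theorem pv_swap (a b : GolayPt) : S.pv a b = S.pv b a := by rw [pv, pv, Finset.pair_comm]

theorem pv_sq (a b : GolayPt) : S.pv a b * S.pv a b = 1 := S.pts.sq _ (S.pv_mem a b)

theorem pv_commute (a b c d : GolayPt) : Commute (S.pv a b) (S.pv c d) :=
  S.big.1 _ (S.pv_mem a b) _ (S.pv_mem c d)

theorem pv_inv (a b : GolayPt) : (S.pv a b)⁻¹ = S.pv a b := inv_eq_of_mul_eq_one_right (S.pv_sq a b)

theorem pv_pair {a b : GolayPt} (hab : a ≠ b) : S.pv a b ∈ pairSet S.val :=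
  ⟨{a, b}, Finset.card_pair hab, rfl⟩

theorem pv_ne_one {a b : GolayPt} (hab : a ≠ b) : S.pv a b ≠ 1 := ((S.pairs _).1 (S.pv_pair hab)).2.1

theorem pv_nonconj {a b : GolayPt} (hab : a ≠ b) : ¬ IsConj z (S.pv a b) :=
  ((S.pairs _).1 (S.pv_pair hab)).2.2

theorem exists_pv {x : G} (hx : x ∈ S.A) (h1 : x ≠ 1) (hz : ¬ IsConj z x) :
    ∃ a b, a ≠ b ∧ S.pv a b = x := by
  obtain ⟨s, hs, rfl⟩ := (S.pairs x).2 ⟨hx, h1, hz⟩
  obtain ⟨a, b, hab, rfl⟩ := Finset.card_eq_two.1 hs
  exact ⟨a, b, hab, rfl⟩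

theorem pv_inj {a b c d : GolayPt} (hab : a ≠ b) (hcd : c ≠ d) (h : S.pv a b = S.pv c d) :
    ({a, b} : Finset GolayPt) = {c, d} :=
  S.pts.eq_of_val (by rw [Finset.card_pair hab, Finset.card_pair hcd]; exact ⟨2, rfl⟩)
    (by rw [Finset.card_pair hab, Finset.card_pair hcd]; norm_num) h

theorem pv_ne {a b c : GolayPt} (hab : a ≠ b) (hac : a ≠ c) (hbc : b ≠ c) : S.pv a b ≠ S.pv a c := fun h => by
  have h' := S.pv_inj hab hac h
  have : b ∈ ({a, c} : Finset GolayPt) := h' ▸ by simp
  simp [hab.symm, hbc] at this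

theorem pv_mul {a b c : GolayPt} (hab : a ≠ b) (hac : a ≠ c) (hbc : b ≠ c) :
    S.pv a b * S.pv a c = S.pv b c := by
  rw [pv, pv, pv, ← S.pts.mul]
  congr 1
  ext x
  simp only [Finset.mem_symmDiff, Finset.mem_insert, Finset.mem_singleton]
  constructor
  · tauto
  · rintro (rfl | rfl)
    · exact Or.inl ⟨Or.inr rfl, fun h => h.elim hab.symm hbc⟩
    · exact Or.inr ⟨Or.inr rfl, fun h => h.elim hac.symm hbc.symm⟩

theorem conj_pv (n : ↥(Subgroup.normalizer (S.A : Set G))) {a b : GolayPt} (hab : a ≠ b) :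
    (n : G) * S.pv a b * (n : G)⁻¹ = S.pv (S.perm n a) (S.perm n b) := by
  rw [pv, S.act n _ (by rw [Finset.card_pair hab]; exact even_two), pv]
  congr 1
  simp [perm, Finset.smul_finset_insert, Finset.smul_finset_singleton]

theorem perm_pair (n : ↥(Subgroup.normalizer (S.A : Set G))) {a b : GolayPt} (hab : a ≠ b)
    (h : Commute (n : G) (S.pv a b)) :
    ({S.perm n a, S.perm n b} : Finset GolayPt) = {a, b} :=
  S.pv_inj ((S.perm n).injective.ne hab) hab (by rw [← S.conj_pv n hab, h.eq, mul_inv_cancel_right])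

theorem commute_pv (n : ↥(Subgroup.normalizer (S.A : Set G))) {a b : GolayPt} (hab : a ≠ b)
    (ha : S.perm n a = a) (hb : S.perm n b = b) : Commute (n : G) (S.pv a b) := by
  have := S.conj_pv n hab
  rw [ha, hb] at this
  exact mul_inv_eq_iff_eq_mul.1 this

theorem mem_cent_tri {a b c : GolayPt} {x : G} : x ∈ Subgroup.centralizer (S.tri a b c : Set G) ↔
    Commute x (S.pv a b) ∧ Commute x (S.pv a c) := by
  rw [tri, Subgroup.centralizer_closure, Subgroup.mem_centralizer_iff]
  simp only [Set.mem_insert_iff, Set.mem_singleton_iff, forall_eq_or_imp, forall_eq]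
  exact ⟨fun h => ⟨h.1.symm, h.2.symm⟩, fun h => ⟨h.1.eq.symm, h.2.eq.symm⟩⟩

theorem mem_tri {a b c : GolayPt} (hab : a ≠ b) (hac : a ≠ c) (hbc : b ≠ c) {x : G} :
    x ∈ S.tri a b c ↔ x = 1 ∨ x = S.pv a b ∨ x = S.pv a c ∨ x = S.pv b c := by
  have hbc' := S.pv_mul hab hac hbc
  constructor
  · intro hx
    have hA : S.tri a b c ≤ S.A := (Subgroup.closure_le _).2 (by
      intro y hy; simp at hy; rcases hy with rfl | rfl <;> exact S.pv_mem _ _)
    let K : Subgroup G :=
      { carrier := {y | y = 1 ∨ y = S.pv a b ∨ y = S.pv a c ∨ y = S.pv b c}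
        one_mem' := Or.inl rfl
        inv_mem' := by
          rintro y (rfl | rfl | rfl | rfl) <;> simp [S.pv_inv]
        mul_mem' := by
          have e1 : S.pv a b * S.pv b c = S.pv a c := by rw [← hbc', ← mul_assoc, S.pv_sq, one_mul]
          have e2 : S.pv a c * S.pv b c = S.pv a b := by
            rw [← hbc', (S.pv_commute a b a c).eq, ← mul_assoc, S.pv_sq, one_mul]
          rintro x y (rfl | rfl | rfl | rfl) (rfl | rfl | rfl | rfl) <;>
            simp [S.pv_sq, hbc', e1, e2, (S.pv_commute a c a b).eq, (S.pv_commute b c a b).eq,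
              (S.pv_commute b c a c).eq] }
    exact (Subgroup.closure_le K).2 (by intro y hy; simp at hy; rcases hy with rfl | rfl <;> simp [K]) hx
  · have h1 : S.pv a b ∈ S.tri a b c := Subgroup.subset_closure (by simp)
    have h2 : S.pv a c ∈ S.tri a b c := Subgroup.subset_closure (by simp)
    rintro (rfl | rfl | rfl | rfl)
    exacts [one_mem _, h1, h2, hbc' ▸ mul_mem h1 h2]

end Act

end Cfsg.Agent.Fus.U62Noncentral
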