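import Cfsg.Agent.Lib.Fus.U62Noncentral.Points

/-!
An involution of the extraspecial group outside the group of order `2^11`, and the pairs inside the
extraspecial group.
-/

set_option autoImplicit false
set_option maxRecDepth 100000
set_option linter.unusedSectionVars false
set_option linter.style.haveILetI false

open Cfsg Cfsg.Agent.Classical Cfsg.Agent.Spor.Cos Cfsg.Agent.Spor.LargeFischer Matrix
open Cfsg.Agent.Spor.USixTwo (K4 vecOf)
open Cfsg.Agent.Fus.LargeFischerScalar Cfsg.Agent.Fus.LargeFischerAbelian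
open Cfsg.Agent.Fus.LargeFischerLocal (AK zH)

namespace Cfsg.Agent.Fus.U62Noncentral

theorem exists_lab_one : ∀ k < 3,
    ((LargeFischerSylow.uw k).any fun u => Nat.beq ((dat k).labC u) 1) = true := by decide +kernel

variable {G : Type*} [Group G] [Finite G] {z : G} {Q : Subgroup (Subgroup.centralizer ({z} : Set G))}
  [hQn : Q.Normal] (m : Model z Q)

/-- A Sylow 2-subgroup with the group as its Thompson subgroup. -/
theorem exists_sylow_AK (hF : IsOfLargeFischerTypeAt z Q) :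
    ∃ T : Sylow 2 G, thompsonSubgroupOf 2 (T : Subgroup G) = AK m := by
  haveI : Fact (Nat.Prime 2) := ⟨Nat.prime_two⟩
  obtain ⟨P, hP⟩ := (IsPGroup.of_card (LargeFischerLocal.card_AK m)).exists_le_sylow
  exact ⟨P, LargeFischerLocal.thompson_eq hP (LargeFischerLocal.AK_big m) fun C hC hbig =>
    LargeFischerLocal.big_eq m hF hC hbig hP (LargeFischerLocal.AK_big m)⟩

/-- The extraspecial group normalises the group. -/
theorem gv_norm (q : Q) : gv q ∈ Subgroup.normalizer (AK m : Set G) := by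
  have hl : m.lin ⟨q, m.M_le q.2⟩ = 1 := (m.lin_eq_one _).2 q.2
  have hq : ∀ r : Q, ∀ a ∈ AK m, gv r * a * (gv r)⁻¹ ∈ AK m := by
    intro r a ha
    obtain ⟨b, hb, rfl⟩ := ha
    refine ⟨_, K0_norm m (n := ⟨r, m.M_le r.2⟩) (fun e he => ?_) hb, rfl⟩
    rw [(m.lin_eq_one _).2 r.2]
    simpa using he
  refine Subgroup.mem_normalizer_iff.2 fun a => ⟨hq q a, fun h => ?_⟩
  have := hq q⁻¹ _ h
  rwa [show gv q⁻¹ = (gv q)⁻¹ from rfl, show (gv q)⁻¹ * (gv q * a * (gv q)⁻¹) * (gv q)⁻¹⁻¹ = a by group] at this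

/-- An element of the extraspecial group in the group lies over the subspace. -/
theorem mem_qu_of_AK {q : Q} (h : gv q ∈ AK m) : q ∈ qu m := by
  obtain ⟨b, hb, e⟩ := h
  exact K0_inf m (Subtype.ext e ▸ hb)

theorem gv_mem_AK {q : Q} (h : q ∈ qu m) : gv q ∈ AK m := ⟨_, qu_le m h, rfl⟩

/-- An involution of the extraspecial group outside the group with a given fixed point. -/
theorem exists_outer (S : Act z) (hS : S.A = AK m) :
    ∃ (x : G) (hx : x ∈ Subgroup.normalizer (S.A : Set G)) (a b c : GolayPt), x * x = 1 ∧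
      a ≠ b ∧ a ≠ c ∧ b ≠ c ∧ S.perm ⟨x, hx⟩ a = b ∧ S.perm ⟨x, hx⟩ b = a ∧ S.perm ⟨x, hx⟩ c = c := by
  classical
  haveI : Fintype Q := Fintype.ofFinite _
  have hn : ∀ q : Q, gv q ∈ Subgroup.normalizer (S.A : Set G) := fun q => hS ▸ gv_norm m q
  let p₀ : GolayPt := none
  let f : Q → GolayPt := fun q => S.perm ⟨gv q, hn q⟩ p₀
  have hQ : Fintype.card Q = 2 ^ 13 := by
    rw [← Nat.card_eq_fintype_card, ← m.card_QG]
    exact (Subgroup.card_map_of_injective (Subgroup.subtype_injective _)).symm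
  obtain ⟨p, hp⟩ := Fintype.exists_lt_card_fiber_of_mul_lt_card f (n := 128) (by rw [hQ, card_pts]; norm_num)
  obtain ⟨q₁, hq₁⟩ : ∃ q₁, f q₁ = p := by
    obtain ⟨q, hq⟩ := Finset.card_pos.1 (Nat.zero_lt_of_lt hp)
    exact ⟨q, (Finset.mem_filter.1 hq).2⟩
  obtain ⟨q, hq, hqu⟩ : ∃ q, f q = p₀ ∧ q ∉ qu m := by
    by_contra hall
    push Not at hall
    have hle : (Finset.univ.filter fun x => f x = p).card ≤ (qu m : Set Q).toFinset.card := by
      refine Finset.card_le_card_of_injOn (fun x => q₁⁻¹ * x) (fun x hx => ?_) fun x _ y _ e => mul_left_cancel e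
      rw [Finset.mem_coe, Set.mem_toFinset]
      refine hall _ ?_
      have hx' : f x = p := (Finset.mem_filter.1 (Finset.mem_coe.1 hx)).2
      show S.perm ⟨gv (q₁⁻¹ * x), _⟩ p₀ = p₀
      rw [show (⟨gv (q₁⁻¹ * x), hn _⟩ : ↥(Subgroup.normalizer (S.A : Set G))) = ⟨gv q₁, hn _⟩⁻¹ * ⟨gv x, hn _⟩ from
        Subtype.ext rfl, S.perm_mul, Equiv.Perm.mul_apply]
      have hinv : S.perm (⟨gv q₁, hn _⟩⁻¹ : ↥(Subgroup.normalizer (S.A : Set G))) = (S.perm ⟨gv q₁, hn _⟩)⁻¹ := by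
        simp [Act.perm]
      rw [hinv, Equiv.Perm.inv_eq_iff_eq]
      exact hx'.trans hq₁.symm
    rw [← Set.ncard_eq_toFinset_card', ← Nat.card_coe_set_eq] at hle
    have := card_qu m
    rw [← SetLike.coe_sort_coe] at this
    omega
  obtain ⟨v, hv, hvq⟩ : ∃ v ∈ qu m, q * v ≠ v * q := by
    by_contra hall
    push Not at hall
    exact hqu (central_qu m hall)
  -- an involution in the coset
  obtain ⟨y, hy, hyy⟩ : ∃ y, (∃ w ∈ qu m, y = q * w) ∧ y * y = 1 := by
    have hsq : q * q = 1 ∨ gv (q * q) = z := by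
      rcases m.ext.sq _ (mem_QG.2 ⟨q, rfl⟩) with h | h
      · exact Or.inl (Subtype.ext (Subtype.ext h))
      · exact Or.inr h
    rcases hsq with h | h
    · exact ⟨q, ⟨1, one_mem _, (mul_one q).symm⟩, h⟩
    · refine ⟨q * v, ⟨v, hv, rfl⟩, Subtype.ext (Subtype.ext ?_)⟩
      have hc := (m.ext.conj_cases (mem_QG.2 ⟨q, rfl⟩) (mem_QG.2 ⟨v, rfl⟩)).resolve_left
        fun e => hvq (Subtype.ext (Subtype.ext e.symm))
      have hvv : gv v * gv v = 1 := congrArg gv (qu_sq m hv)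
      have hqq : gv q * gv q = z := h
      show gv q * gv v * (gv q * gv v) = 1
      calc gv q * gv v * (gv q * gv v) = gv q * (gv v * gv q * (gv v)⁻¹) * (gv v * gv v) := by group
        _ = gv q * gv q * z := by rw [hc.2, hvv, mul_one, mul_assoc]
        _ = 1 := by rw [hqq, m.ext.zz]
  obtain ⟨w, hw, rfl⟩ := hy
  have hyA : gv (q * w) ∉ S.A := fun h => hqu (by
    have h1 := mem_qu_of_AK m (hS ▸ h)
    simpa [mul_assoc] using mul_mem h1 (inv_mem hw))
  have hperm : S.perm ⟨gv (q * w), hn _⟩ = S.perm ⟨gv q, hn _⟩ := by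
    rw [show (⟨gv (q * w), hn _⟩ : ↥(Subgroup.normalizer (S.A : Set G))) = ⟨gv q, hn _⟩ * ⟨gv w, hn _⟩ from
      Subtype.ext rfl, S.perm_mul, (S.perm_eq_one (n := ⟨gv w, hn _⟩)).2 (show gv w ∈ S.A from hS ▸ gv_mem_AK m hw), mul_one]
  set π := S.perm ⟨gv (q * w), hn _⟩ with hπ
  have hne : π ≠ 1 := fun e => hyA (S.perm_eq_one.1 e)
  obtain ⟨a, ha⟩ : ∃ a, π a ≠ a := by
    by_contra h
    push Not at h
    exact hne (Equiv.ext h)
  have hππ : π * π = 1 := by
    rw [hπ, ← S.perm_mul, S.perm_eq_one]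
    rw [show ((⟨gv (q * w), hn _⟩ * ⟨gv (q * w), hn _⟩ : ↥(Subgroup.normalizer (S.A : Set G))) : G) = 1 from
      congrArg gv hyy]
    exact one_mem _
  have hc : π p₀ = p₀ := by rw [hperm]; exact hq
  have hback : π (π a) = a := by rw [← Equiv.Perm.mul_apply, hππ, Equiv.Perm.one_apply]
  refine ⟨_, hn (q * w), a, π a, p₀, congrArg gv hyy, Ne.symm ha, fun e => ha ?_, fun e => ha ?_, rfl, hback, hc⟩
  · rw [e, hc]
  · have := hback
    rw [e, hc] at this
    rw [e]; exact this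

/-- A pair inside the extraspecial group. -/
theorem exists_inner (S : Act z) (hS : S.A = AK m) :
    ∃ (q : Q) (a b : GolayPt), a ≠ b ∧ gv q = S.pv a b ∧ m.lab q = 1 := by
  obtain ⟨u, hu, hl⟩ := List.any_eq_true.1 (exists_lab_one m.k m.hk)
  have hlt := (LargeFischerSylow.uw_facts m.hk).2.2.1 u hu
  obtain ⟨q, hq⟩ := m.rep_surj (vecOf u)
  have hqu : q ∈ qu m := by
    show InU m (m.rep q)
    exact (LargeFischerSylow.fix_E m.hk _).2 (by rw [hq, enc6_vecOf hlt]; exact hu)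
  have hlab : m.lab q = 1 := by
    rw [Model.lab, labV, hq, enc6_vecOf hlt]
    exact Nat.eq_of_beq_eq_true hl
  obtain ⟨-, h1, hz⟩ := m.of_lab (Or.inl hlab)
  have hnc : ¬ IsConj z (gv q) := fun h => by
    have := LargeFischerCoset.conj_lab_two (m := m) h hz
    omega
  obtain ⟨a, b, hab, e⟩ := S.exists_pv (hS ▸ gv_mem_AK m hqu) h1 hnc
  exact ⟨q, a, b, hab, e.symm, hlab⟩

include m in
/-- The involutions of the extraspecial group outside the class of the centre are pairs. -/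
theorem exists_conj_pair (hF : IsOfLargeFischerTypeAt z Q) (S : Act z) (hS : S.A = AK m) {t : G}
    (htQ : ∃ htc : t ∈ Subgroup.centralizer ({z} : Set G), (⟨t, htc⟩ : Subgroup.centralizer ({z} : Set G)) ∈ Q)
    (ht2 : orderOf t = 2) (ht : ¬ IsConj z t) {a b : GolayPt} (hab : a ≠ b) :
    ∃ g : G, g * S.pv a b * g⁻¹ = t := by
  obtain ⟨q, p, r, hpr, hq, hlab⟩ := exists_inner m S hS
  obtain ⟨htc, ht'⟩ := htQ
  obtain ⟨y, hy⟩ : ∃ y : Q, gv y = t := ⟨⟨⟨t, htc⟩, ht'⟩, rfl⟩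
  have hy1 : gv y ≠ 1 := fun e => by rw [hy] at e; rw [e, orderOf_one] at ht2; omega
  have hyz : gv y ≠ z := fun e => ht (by rw [← hy, e])
  have hyy : y * y = 1 := Subtype.ext (Subtype.ext (by
    show gv y * gv y = 1
    rw [hy, ← pow_two, ← ht2]; exact pow_orderOf_eq_one t))
  have hly : m.lab y = 1 := (m.lab_invol hyy hy1 hyz).resolve_right fun h =>
    ht (hy ▸ LargeFischerCoset.lab_two_conj hF h)
  obtain ⟨c, hc⟩ := m.conj_of_lab (Or.inl hly) (hlab.trans hly.symm)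
  have hc' : (c : G) * S.pv p r * (c : G)⁻¹ = t := by
    rw [← hq, ← hy]; exact congrArg Subtype.val hc
  let u : Fin 2 ↪ GolayPt := ⟨![a, b], fun i j h => by fin_cases i <;> fin_cases j <;> simp_all⟩
  let v : Fin 2 ↪ GolayPt := ⟨![p, r], fun i j h => by fin_cases i <;> fin_cases j <;> simp_all⟩
  obtain ⟨σ, hσ, hmove⟩ := Spor.Golay.Census.exists_move_points (k := 2) (by norm_num) u v
  obtain ⟨n, hn⟩ := S.exists_perm_eq hσ
  have e : (n : G) * S.pv a b * (n : G)⁻¹ = S.pv p r := by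
    rw [S.conj_pv n hab, hn, show σ a = p from hmove 0, show σ b = r from hmove 1]
  exact ⟨(c : G) * n, by rw [← hc', ← e]; group⟩

end Cfsg.Agent.Fus.U62Noncentral
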