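import Cfsg.Agent.Lib.Fus.U62Noncentral.Points
import Cfsg.Agent.Lib.Block.FischerTypes.M22Recog.Case
import Cfsg.Agent.Lib.Block.FischerTypes.M22Recog.Fusion
import Cfsg.Agent.Lib.Grp.Quasisimple

/-!
Over a triangle the unitary group `U₆(2)` has no element squaring to the pair.
-/

set_option autoImplicit false
set_option linter.unusedSectionVars false
set_option linter.style.haveILetI false

open Cfsg
open Cfsg.Agent.Fus.LargeFischerPoints
open scoped Pointwise

namespace Cfsg.Agent.Fus.U62Noncentral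

variable {G : Type*} [Group G] [Finite G] {z : G}

/-- A subgroup with quasisimple centraliser having `U₆(2)` over it. -/
def IsTriCent (E : Subgroup G) : Prop :=
  Cfsg.IsQuasisimple ↥(Subgroup.centralizer (E : Set G)) ∧
    ∃ (_ : (E.subgroupOf (Subgroup.centralizer (E : Set G))).Normal) (K : Type) (_ : Field K) (_ : Fintype K),
      Fintype.card K = 4 ∧ Nonempty (↥(Subgroup.centralizer (E : Set G)) ⧸
        E.subgroupOf (Subgroup.centralizer (E : Set G)) ≃* Cfsg.PSU 6 K 2)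

/-- Every triangle has centraliser `U₆(2)` over it. -/
def HasTriangles (z : G) : Prop :=
  ∀ (T : Sylow 2 G) (A : Subgroup G), A = thompsonSubgroupOf 2 (T : Subgroup G) → ∀ a b : G, a ∈ A → b ∈ A →
    (a ≠ 1 ∧ ¬ IsConj z a) → (b ≠ 1 ∧ ¬ IsConj z b) → (a * b ≠ 1 ∧ ¬ IsConj z (a * b)) →
    IsTriCent (Subgroup.closure {a, b})

theorem isTriCent_tri (h : HasTriangles z) (S : Act z) (T : Sylow 2 G)
    (hS : S.A = thompsonSubgroupOf 2 (T : Subgroup G)) {a b c : GolayPt} (hab : a ≠ b) (hac : a ≠ c) (hbc : b ≠ c) :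
    IsTriCent (S.tri a b c) := by
  refine h T S.A hS _ _ (S.pv_mem a b) (S.pv_mem a c) ⟨S.pv_ne_one hab, S.pv_nonconj hab⟩
    ⟨S.pv_ne_one hac, S.pv_nonconj hac⟩ ?_
  rw [S.pv_mul hab hac hbc]
  exact ⟨S.pv_ne_one hbc, S.pv_nonconj hbc⟩

/-- No element centralising a triangle squares to one of its involutions. -/
theorem sq_ne_pair (S : Act z) {a b c : GolayPt} (hab : a ≠ b) (hac : a ≠ c) (hbc : b ≠ c)
    (h : IsTriCent (S.tri a b c)) {w : G} (hw : Commute w (S.pv a b) ∧ Commute w (S.pv a c)) :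
    w * w ≠ S.pv a b := by
  obtain ⟨hq, hEn, F, hF1, hF2, hF, ⟨e⟩⟩ := h
  intro hww
  obtain ⟨k⟩ := Block.FischerTypes.U6Code.exists_k4 hF
  generalize hC : Subgroup.centralizer (S.tri a b c : Set G) = C at hq hEn e
  have hmemC : ∀ x, x ∈ C ↔ Commute x (S.pv a b) ∧ Commute x (S.pv a c) := fun x => hC ▸ S.mem_cent_tri
  have htC : S.pv a b ∈ C := (hmemC _).2 ⟨Commute.refl _, S.pv_commute a b a c⟩
  have hdC : S.pv a c ∈ C := (hmemC _).2 ⟨S.pv_commute a c a b, Commute.refl _⟩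
  set N : Subgroup ↥C := Subgroup.zpowers ⟨S.pv a b, htC⟩ with hN
  have hcen : ∀ x : ↥C, x * ⟨S.pv a b, htC⟩ = ⟨S.pv a b, htC⟩ * x := fun x => Subtype.ext ((hmemC x).1 x.2).1.eq
  haveI : N.Normal := ⟨fun y hy g => by
    have hy' : Commute g y := by
      obtain ⟨i, rfl⟩ := hy
      exact (show Commute g (⟨S.pv a b, htC⟩ : ↥C) from hcen g).zpow_right i
    rwa [hy'.eq, mul_inv_cancel_right]⟩
  have hNmem : ∀ x : ↥C, x ∈ N → x = 1 ∨ x = ⟨S.pv a b, htC⟩ := by
    intro x hx
    have hsq : (⟨S.pv a b, htC⟩ : ↥C) ^ 2 = 1 := by rw [pow_two]; exact Subtype.ext (S.pv_sq a b)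
    obtain ⟨i, rfl⟩ := hx
    rcases Int.even_or_odd i with ⟨j, rfl⟩ | ⟨j, rfl⟩
    · left
      show (⟨S.pv a b, htC⟩ : ↥C) ^ (j + j) = 1
      rw [show j + j = (2 : ℕ) * j by omega, zpow_mul, zpow_natCast, hsq, one_zpow]
    · right
      show (⟨S.pv a b, htC⟩ : ↥C) ^ (2 * j + 1) = _
      rw [zpow_add, zpow_one, show 2 * j = (2 : ℕ) * j by omega, zpow_mul, zpow_natCast, hsq, one_zpow, one_mul]
  set mk : ↥C →* ↥C ⧸ N := QuotientGroup.mk' N with hmk
  have hNle : N ≤ (S.tri a b c).subgroupOf C :=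
    Subgroup.zpowers_le.2 ((S.mem_tri hab hac hbc).2 (Or.inr (Or.inl rfl)))
  let π : ↥C ⧸ N →* _ := QuotientGroup.lift N ((e.trans k).toMonoidHom.comp (QuotientGroup.mk' _)) fun x hx => by
    rw [MonoidHom.mem_ker, MonoidHom.comp_apply, QuotientGroup.mk'_apply, (QuotientGroup.eq_one_iff x).2 (hNle hx),
      map_one]
  have hπ : ∀ x : ↥C, π (mk x) = (e.trans k) (QuotientGroup.mk x) := fun x => rfl
  have hd1 : mk ⟨S.pv a c, hdC⟩ ≠ 1 := fun hd => by
    rcases hNmem _ ((QuotientGroup.eq_one_iff _).1 hd) with h | h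
    · exact S.pv_ne_one hac (congrArg Subtype.val h)
    · exact S.pv_ne hac hab hbc.symm (congrArg Subtype.val h)
  haveI : Group.IsPerfect ↥C := hq.1
  let K : Block.FischerTypes.M22Recog.Cov (↥C ⧸ N) :=
    { π := π
      z := mk ⟨S.pv a c, hdC⟩
      surj := fun y => by
        obtain ⟨x, hx⟩ := QuotientGroup.mk_surjective ((e.trans k).symm y)
        exact ⟨mk x, by rw [hπ, hx, MulEquiv.apply_symm_apply]⟩
      kerEq := fun y => by
        obtain ⟨x, rfl⟩ := QuotientGroup.mk_surjective y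
        show π (mk x) = 1 ↔ mk x = 1 ∨ mk x = _
        rw [hπ, map_eq_one_iff _ (e.trans k).injective, QuotientGroup.eq_one_iff, Subgroup.mem_subgroupOf,
          S.mem_tri hab hac hbc]
        constructor
        · rintro (h | h | h | h)
          · exact Or.inl (by rw [show x = 1 from Subtype.ext h, map_one])
          · exact Or.inl (by rw [show x = ⟨_, htC⟩ from Subtype.ext h]; exact (QuotientGroup.eq_one_iff _).2 (Subgroup.mem_zpowers _))
          · exact Or.inr (by rw [show x = ⟨_, hdC⟩ from Subtype.ext h])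
          · refine Or.inr (Eq.symm (QuotientGroup.eq.2 ?_))
            have : (⟨S.pv a c, hdC⟩ : ↥C)⁻¹ * x = ⟨S.pv a b, htC⟩ := Subtype.ext (by
              show (S.pv a c)⁻¹ * (x : G) = S.pv a b
              rw [h, S.pv_inv, ← S.pv_mul hab hac hbc, (S.pv_commute a b a c).eq, ← mul_assoc, S.pv_sq, one_mul])
            rw [this]
            exact Subgroup.mem_zpowers _
        · rintro (h | h)
          · rcases hNmem x ((QuotientGroup.eq_one_iff _).1 h) with h | h
            · exact Or.inl (congrArg Subtype.val h)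
            · exact Or.inr (Or.inl (congrArg Subtype.val h))
          · rcases hNmem _ (QuotientGroup.eq.1 h) with h' | h'
            · exact Or.inr (Or.inr (Or.inl (congrArg Subtype.val (inv_mul_eq_one.1 h'))))
            · refine Or.inr (Or.inr (Or.inr ?_))
              have h2 : (x : G)⁻¹ * S.pv a c = S.pv a b := congrArg Subtype.val h'
              have h3 : (x : G) * S.pv a b = S.pv a c := by rw [← h2, mul_inv_cancel_left]
              calc (x : G) = (x : G) * S.pv a b * S.pv a b := by rw [mul_assoc, S.pv_sq, mul_one]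
                _ = S.pv b c := by rw [h3, (S.pv_commute a c a b).eq, S.pv_mul hab hac hbc]
      central := fun y => by
        obtain ⟨x, rfl⟩ := QuotientGroup.mk_surjective y
        exact (show Commute (⟨S.pv a c, hdC⟩ : ↥C) x from Subtype.ext ((hmemC x).1 x.2).2.eq.symm).map mk
      sq := by rw [← map_mul, show (⟨S.pv a c, hdC⟩ : ↥C) * ⟨S.pv a c, hdC⟩ = 1 from Subtype.ext (S.pv_sq a c), map_one]
      ne := hd1
      perfect := (Group.IsPerfect.ofSurjective (QuotientGroup.mk'_surjective N)).commutator_eq_top }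
  obtain ⟨codes, _, _, _, _, _, _, _, hc, hok⟩ := K.exists_case
  have hAC : S.A ≤ C := fun x hx => (hmemC x).2 ⟨S.big.1 x hx _ (S.pv_mem a b), S.big.1 x hx _ (S.pv_mem a c)⟩
  set Ab := (S.A.subgroupOf C).map mk with hAb
  have hcard : 1024 ≤ Nat.card Ab := by
    have h1 := Subgroup.relIndex_ker mk (K := S.A.subgroupOf C)
    have h2 := Subgroup.card_mul_index (mk.ker.subgroupOf (S.A.subgroupOf C))
    rw [show (mk.ker.subgroupOf (S.A.subgroupOf C)).index = Nat.card Ab from h1] at h2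
    have hA : Nat.card (S.A.subgroupOf C) = 2 ^ 11 := by
      rw [Nat.card_congr (Subgroup.subgroupOfEquivOfLe hAC).toEquiv, S.card]
    have h3 : Nat.card (mk.ker.subgroupOf (S.A.subgroupOf C)) ≤ 2 := by
      refine (Nat.card_le_card_of_injective
        (fun x : ↥(mk.ker.subgroupOf (S.A.subgroupOf C)) => (⟨x.1.1, x.2⟩ : ↥mk.ker)) fun x y e =>
        Subtype.ext (Subtype.ext (congrArg Subtype.val e :))).trans ?_
      rw [hmk, QuotientGroup.ker_mk', hN, Nat.card_zpowers]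
      exact Nat.le_of_dvd two_pos (orderOf_dvd_of_pow_eq_one (by rw [pow_two]; exact Subtype.ext (S.pv_sq a b)))
    rw [hA] at h2
    norm_num at h2 ⊢
    nlinarith
  obtain ⟨g, hg⟩ := K.elem_conj hc hok.low (A := Ab)
    (by rintro _ ⟨x, hx, rfl⟩; rw [← map_mul, show x * x = 1 from Subtype.ext (S.big.2.1 _ hx), map_one])
    (by rintro _ ⟨x, hx, rfl⟩ _ ⟨y, hy, rfl⟩; exact (show Commute x y from Subtype.ext (S.big.1 _ hx _ hy)).map mk)
    hcard
  have hwC : w ∈ C := (hmemC w).2 hw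
  obtain ⟨g', hg'⟩ := K.invol_conj hc (y := mk ⟨w, hwC⟩) (by
    rw [← map_mul, show (⟨w, hwC⟩ : ↥C) * ⟨w, hwC⟩ = ⟨_, htC⟩ from Subtype.ext hww]
    exact (QuotientGroup.eq_one_iff _).2 (Subgroup.mem_zpowers _))
  rw [← hg] at hg'
  obtain ⟨u, ⟨v, hv, rfl⟩, hu⟩ := hg'
  obtain ⟨f, hf⟩ := QuotientGroup.mk'_surjective N (g⁻¹ * g')
  have hconj : mk (f * ⟨w, hwC⟩ * f⁻¹) = mk v := by
    have hu' : g * mk v * g⁻¹ = g' * mk ⟨w, hwC⟩ * g'⁻¹ := hu
    have hf' : mk f = g⁻¹ * g' := hf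
    rw [map_mul, map_mul, map_inv, hf']
    calc g⁻¹ * g' * mk ⟨w, hwC⟩ * (g⁻¹ * g')⁻¹ = g⁻¹ * (g' * mk ⟨w, hwC⟩ * g'⁻¹) * g := by group
      _ = g⁻¹ * (g * mk v * g⁻¹) * g := by rw [hu']
      _ = mk v := by group
  have hA : (f : G) * w * (f : G)⁻¹ ∈ S.A := by
    rcases hNmem _ (QuotientGroup.eq.1 hconj) with h | h
    · have := congrArg Subtype.val (inv_mul_eq_one.1 h)
      exact (show (f : G) * w * (f : G)⁻¹ = (v : G) from this) ▸ hv
    · have h' : ((f : G) * w * (f : G)⁻¹)⁻¹ * (v : G) = S.pv a b := congrArg Subtype.val h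
      have : (f : G) * w * (f : G)⁻¹ = (v : G) * S.pv a b := by
        rw [← S.pv_inv a b, ← h']
        group
      rw [this]
      exact mul_mem hv (S.pv_mem a b)
  refine S.pv_ne_one hab ?_
  rw [← hww]
  refine (conj_eq_one_iff (a := (f : G))).1 ?_
  rw [← S.big.2.1 _ hA]
  group

end Cfsg.Agent.Fus.U62Noncentral
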